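import Cfsg.Agent.Lib.PSpAmalgam.Loc
import Cfsg.Agent.Lib.PSpThree.Setup

/-!
# The two components of an involution centralizer commute, in the amalgam
-/

set_option autoImplicit false
set_option maxHeartbeats 1600000
set_option linter.unusedSectionVars false
set_option linter.style.haveILetI false

namespace Cfsg.Lib.U62Comm

open Subgroup Cfsg.Lib.PSpAmalgam

variable {G : Type*} [Group G] [Fintype G] {C : Cfg G} (F : C.Frame)

theorem hz_four {g : G} (hg : g ∈ F.Hz) (h4 : g ^ 4 = 1) : ∃ p < 24, g = F.uz p := by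
  have hgi : Commute g F.i := (F.mem_Hz_iff.1 hg).1
  have hgA : g ∈ C.A₂ := hg.2
  obtain ⟨hA, hy⟩ := F.φz_sect (C.π₂ ⟨g, hgA⟩)
  have hk : (F.φz (C.π₂ ⟨g, hgA⟩))⁻¹ * g ∈ C.Z := by
    refine F.fixed₂ ((C.ker₂ (⟨_, hA⟩⁻¹ * ⟨g, hgA⟩)).1 ?_) ((F.φz_i _).inv_left.mul_left hgi)
    rw [map_mul, map_inv, hy, inv_mul_cancel]
  set y := C.π₂ ⟨g, hgA⟩ with hydef
  set k := (F.φz y)⁻¹ * g with hkdef
  have hy4 : y ^ 4 = 1 := by
    rw [hydef, ← map_pow, show (⟨g, hgA⟩ : C.A₂) ^ 4 = 1 from Subtype.ext h4, map_one]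
  have hc : Commute (F.φz y) k := by
    obtain ⟨n, hn⟩ := mem_zpowers_iff.1 ((C.Z_eq_zpowers F.z_mem F.z_ne).1 ▸ hk : k ∈ zpowers F.z)
    rw [← hn]
    exact (F.φz_z y).zpow_right n
  have hg' : g = F.φz y * k := by rw [hkdef, mul_inv_cancel_left]
  have hk4 : k ^ 4 = 1 := by
    have h := h4
    rw [hg', hc.mul_pow, ← map_pow, hy4, map_one, one_mul] at h
    exact h
  have hk1 : k = 1 := by
    rw [pow_succ, C.exp₁ k (C.Z_le₁ hk), one_mul] at hk4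
    exact hk4
  obtain ⟨p, hp, e⟩ := Cfsg.Lib.UFourThreeLocal.slOf_surj y
  refine ⟨p, hp, ?_⟩
  rw [hg', hk1, mul_one, Cfg.Frame.uz, e]

include F in
theorem frame_commute {t u x w : G} (ht : t * t = 1) (ht1 : t ≠ 1) (htA : t ∈ C.A₂)
    (hu : u ∈ C.A₂) (hut : Commute u t) (hu4 : u ^ 4 = 1)
    (hxQ : x ∈ C.Q₁) (hxc : IsConj F.z x ∨ IsConj F.z x⁻¹) (hxn : x ∉ C.Z) (htx : Commute t x)
    (hwx : Commute w x) (hwt : Commute w t) (hw : w ^ 4 = 1) : Commute u w := by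
  have h27 : ∀ q ∈ C.Q₂, q ^ 27 = 1 := fun q hq => by
    have h := pow_card_eq_one' (G := C.Q₂) (x := ⟨q, hq⟩)
    rw [C.card_Q₂] at h
    exact congrArg Subtype.val h
  have htn : C.π₂ ⟨t, htA⟩ = -1 := by
    refine (Cfsg.Lib.PSpThree.sl_facts.2.2.2.1 (C.π₂ ⟨t, htA⟩) ?_).resolve_left fun e => ht1 ?_
    · rw [← map_mul, show (⟨t, htA⟩ : C.A₂) * ⟨t, htA⟩ = 1 from Subtype.ext ht, map_one]
    · have h := h27 t ((C.ker₂ _).1 e)
      rw [show (27 : ℕ) = 2 * 13 + 1 from rfl, pow_succ, pow_mul, pow_two, ht, one_pow, one_mul] at h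
      exact h
  have hti : t * F.i ∈ C.Q₂ := (C.ker₂ (⟨t, htA⟩ * ⟨F.i, F.i_mem₂⟩)).1 (by
    rw [map_mul, htn, F.i_neg, neg_one_mul, neg_neg])
  obtain ⟨r, hr, hrt⟩ := exists_conj_odd F.i_sq ht hti (h27 _ hti)
  have hr₁ : r ∈ C.A₁ := C.S_le₁ (C.Q₂_le_S hr)
  let f : G ≃* G := MulAut.conj r⁻¹
  have hf : ∀ {a b : G}, Commute a b → Commute (f a) (f b) := fun h => h.map f.toMonoidHom
  have hf' : ∀ a : G, f a = r⁻¹ * a * r := fun a => by simp [f, mul_assoc]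
  have hft : f t = F.i := by rw [hf', ← hrt]; group
  set x' := f x with hx'
  have hx'Q : x' ∈ C.Q₁ := by
    rw [hx', hf']
    simpa using C.norm₁ (C.A₁.inv_mem hr₁) hxQ
  have hx'i : Commute x' F.i := hft ▸ hf htx.symm
  have hx'E : x' ∈ F.E := ⟨hx'Q, mem_centralizer_singleton_iff.2 hx'i.eq⟩
  have hx'n : x' ∉ C.Z := fun h => by
    have hc : Commute r x' := C.S_comm_Z (C.Q₂_le_S hr) h
    refine hxn ?_
    rw [show x = r * x' * r⁻¹ by rw [hx', hf']; group, hc.eq, mul_inv_cancel_right]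
    exact h
  have hzn : ∀ y, y = x' ∨ y = x'⁻¹ → y ≠ F.z := by
    rintro y (rfl | rfl) e
    · exact hx'n (e ▸ F.z_mem)
    · exact hx'n (inv_inv x' ▸ C.Z.inv_mem (e ▸ F.z_mem))
  have hd : (F.pt 2 : G) = x' ∨ (F.pt 2 : G) = x'⁻¹ := by
    rcases hxc with h | h
    · left
      have hc : IsConj F.z x' := h.trans (isConj_iff.2 ⟨r⁻¹, by rw [hx', hf', inv_inv]⟩)
      exact ((F.fusion_E hc hx'E).resolve_left (hzn _ (Or.inl rfl))).symm
    · right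
      have hc : IsConj F.z x'⁻¹ := h.trans (isConj_iff.2 ⟨r⁻¹, by rw [hx', hf', inv_inv]; group⟩)
      exact ((F.fusion_E hc (F.E.inv_mem hx'E)).resolve_left (hzn _ (Or.inr rfl))).symm
  have hu'i : Commute (f u) F.i := hft ▸ hf hut
  have hu'A : f u ∈ C.A₂ := by
    rw [hf']; exact C.A₂.mul_mem (C.A₂.mul_mem (C.A₂.inv_mem (C.le₂ hr)) hu) (C.le₂ hr)
  obtain ⟨p, hp, hpu⟩ := hz_four F (g := f u) ⟨mem_centralizer_singleton_iff.2 hu'i.eq, hu'A⟩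
    (by rw [← map_pow, hu4, map_one])
  have hw'i : Commute (f w) F.i := hft ▸ hf hwt
  have hw'd : Commute (f w) (F.pt 2 : G) := by
    rcases hd with e | e <;> rw [e]
    exacts [hf hwx, (hf hwx).inv_right]
  let c : G ≃* G := MulAut.conj F.s⁻¹
  have hcz : c (F.pt 2 : G) = F.z := by
    show F.s⁻¹ * (F.pt 2 : G) * F.s⁻¹⁻¹ = F.z
    rw [← F.s_z]; group
  have hci : c F.i = F.i := by
    show F.s⁻¹ * F.i * F.s⁻¹⁻¹ = F.i
    rw [inv_inv, mul_assoc, ← F.s_i.eq, inv_mul_cancel_left]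
  obtain ⟨q, hq, hqw⟩ := hz_four F (g := c (f w))
    (F.mem_Hz_iff.2 ⟨hci ▸ hw'i.map c.toMonoidHom, hcz ▸ hw'd.map c.toMonoidHom⟩)
    (by rw [← map_pow, ← map_pow, hw, map_one, map_one])
  have hwud : f w = F.ud q := by
    rw [Cfg.Frame.ud, ← hqw]
    show f w = F.s * (F.s⁻¹ * f w * F.s⁻¹⁻¹) * F.s⁻¹
    group
  have hfin : Commute (f u) (f w) := by rw [hpu, hwud]; exact F.comp_comm hp hq
  have h := hfin.map f.symm.toMonoidHom
  simpa using h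

end Cfsg.Lib.U62Comm
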