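import Cfsg.Agent.Lib.U62Comm.Cfg
import Cfsg.Agent.Lib.U62Comm.Half

/-!
# The two components in the centralizer of an involution commute
-/

set_option autoImplicit false
set_option maxHeartbeats 1600000
set_option maxRecDepth 100000
set_option linter.unusedSectionVars false
set_option linter.style.haveILetI false

namespace Cfsg.Lib.U62Comm

open Subgroup Cfsg.Lib.SymNine Cfsg.Lib.PSpThree

theorem axis_facts : (∀ s k, act s k one1 ≠ 1) ∧ (∀ s k, act s k one1 ≠ vSmul 2 1) ∧ (1 : Fin 27) ≠ 0 := by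
  decide +kernel

theorem commute_components {X : Type*} [Group X] [Finite X] (D : Cfsg.Lib.PSpThree.Data X)
    (h3 : ∀ M : Subgroup X, M.Normal → M.index ≠ 3)
    (hsmall : (∀ g : X, g * D.a * g⁻¹ ≠ D.a⁻¹) ∨ ∀ y ∈ D.J, y ≠ 1 →
      (∀ g : X, g * D.a * g⁻¹ ≠ y ∧ g * D.a * g⁻¹ ≠ y⁻¹) →
      Subgroup.centralizer ({y} : Set X) ≤ Subgroup.normalizer (D.J : Set X))
    {t x u w : X} (ht : t * t = 1) (ht1 : t ≠ 1) (hta : Commute t D.a)
    (hxJ : x ∈ D.J) (hxa : ∃ g, g * D.a * g⁻¹ = x ∨ g * D.a * g⁻¹ = x⁻¹) (hxn : x ∉ Subgroup.zpowers D.a)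
    (htx : Commute t x)
    (hua : Commute u D.a) (hut : Commute u t) (hu : u ^ 4 = 1) (hwx : Commute w x) (hwt : Commute w t)
    (hw : w ^ 4 = 1) : Commute u w := by
  classical
  obtain ⟨S, hS, m, h⟩ := Setting.exists_case D
  subst hS
  fin_cases m
  · obtain ⟨M, hM, hM3⟩ := S.exists_index_three h
    exact absurd hM3 (h3 M hM)
  · exfalso
    obtain ⟨g, hg⟩ := hxa
    have hn : g ∈ normalizer ((zpowers S.D.a : Subgroup X) : Set X) := by
      rw [Setting.normal_za h]; exact mem_top _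
    have hm := (mem_normalizer_iff.1 hn S.D.a).1 (mem_zpowers _)
    rcases hg with e | e <;> rw [e] at hm
    · exact hxn hm
    · exact hxn (inv_inv x ▸ inv_mem hm)
  · exact setting_commute S h ht ht1 hta hua hut hu hxJ hxa hxn htx hwx hwt hw
  · obtain ⟨T, hT, ⟨Df⟩⟩ := S.exists_full_setting h
    rw [← hT] at hsmall hta hxJ hxa hxn hua
    obtain ⟨k, hk⟩ := (T.inverted_iff Df.isCase).2 (Or.inr rfl)
    replace hsmall := hsmall.resolve_left fun h' => h' k hk
    clear h hT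
    clear S
    have hTs : ∀ g, g * T.F.v 1 = T.F.v 1 * g → g ∈ normalizer (T.F.J : Set X) := by
      intro g hg
      rw [T.hJ]
      refine hsmall (T.F.v 1) (T.hJ ▸ T.F.v_mem 1) (fun e => axis_facts.2.2 (T.F.v_eq_one.1 e)) (fun k => ?_)
        (mem_centralizer_singleton_iff.2 hg)
      constructor <;> intro e <;> rw [← T.a_eq] at e
      · obtain ⟨s, l, -, hl⟩ := Df.isCase.conj_cases e
        exact axis_facts.1 s l hl
      · rw [T.F.v_inv] at e
        obtain ⟨s, l, -, hl⟩ := Df.isCase.conj_cases e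
        exact axis_facts.2.1 s l hl
    obtain ⟨N, S', hidx, hCN, h', ha, hJ⟩ := Setting.exists_half T Df hTs
    haveI : N.Normal := normal_of_index_eq_two hidx
    have htN : t ∈ N := hCN (T.D.mem_C.2 hta.eq)
    have huN : u ∈ N := hCN (T.D.mem_C.2 hua.eq)
    have hxN : x ∈ N := hCN (T.D.J_le hxJ)
    obtain ⟨g, hg⟩ := hxa
    have hwN : w ∈ N := by
      have hc : Commute w (g * T.D.a * g⁻¹) := by
        rcases hg with e | e <;> rw [e]
        exacts [hwx, hwx.inv_right]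
      have h1 : g⁻¹ * w * g ∈ N := hCN (T.D.mem_C.2 (by
        calc g⁻¹ * w * g * T.D.a = g⁻¹ * (w * (g * T.D.a * g⁻¹)) * g := by group
          _ = g⁻¹ * (g * T.D.a * g⁻¹ * w) * g := by rw [hc.eq]
          _ = T.D.a * (g⁻¹ * w * g) := by group))
      have h2 := Subgroup.Normal.conj_mem (H := N) inferInstance _ h1 g
      simpa [mul_assoc] using h2
    obtain ⟨g', hg'N, hg'⟩ : ∃ g' ∈ N, g' * T.D.a * g'⁻¹ = x ∨ g' * T.D.a * g'⁻¹ = x⁻¹ := by
      by_cases hgN : g ∈ N
      · exact ⟨g, hgN, hg⟩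
      · have hkN : k ∉ N := fun hkN => by
          rcases (S'.inverted_iff h').1 ⟨⟨k, hkN⟩, Subtype.ext (by simpa [ha] using hk)⟩ with e | e <;>
            exact absurd e (by decide)
        refine ⟨g * k, (mul_mem_iff_of_index_two hidx).2 (iff_of_false hgN hkN), ?_⟩
        have e : g * k * T.D.a * (g * k)⁻¹ = (g * T.D.a * g⁻¹)⁻¹ := by
          calc g * k * T.D.a * (g * k)⁻¹ = g * (k * T.D.a * k⁻¹) * g⁻¹ := by group
            _ = _ := by rw [hk]; group
        rcases hg with e1 | e1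
        · exact Or.inr (by rw [e, e1])
        · exact Or.inl (by rw [e, e1, inv_inv])
    have hc : Commute (⟨u, huN⟩ : N) ⟨w, hwN⟩ := by
      refine setting_commute S' h' (t := (⟨t, htN⟩ : N)) (x := ⟨x, hxN⟩) (Subtype.ext ht)
        (fun e => ht1 (congrArg Subtype.val e)) (Subtype.ext (by simpa [ha] using hta.eq))
        (Subtype.ext (by simpa [ha] using hua.eq)) (Subtype.ext hut.eq) (Subtype.ext hu) (hJ _ hxJ)
        ⟨⟨g', hg'N⟩, ?_⟩ ?_ (Subtype.ext htx.eq) (Subtype.ext hwx.eq) (Subtype.ext hwt.eq) (Subtype.ext hw)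
      · exact hg'.imp (fun e => Subtype.ext (by simpa [ha] using e)) (fun e => Subtype.ext (by simpa [ha] using e))
      · rintro ⟨n, hn⟩
        refine hxn ⟨n, ?_⟩
        simpa [ha] using congrArg Subtype.val hn
    exact congrArg Subtype.val hc.eq

end Cfsg.Lib.U62Comm
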