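import Cfsg.Agent.Lib.U62Comm.Main

/-!
# The structure of the centralizer of the involution
-/

set_option autoImplicit false
set_option maxHeartbeats 1600000
set_option maxRecDepth 100000
set_option linter.unusedSectionVars false
set_option linter.style.haveILetI false

namespace Cfsg.Lib.U62Comm

open Subgroup

/-- The elements generating the two components. -/
def compGen {G : Type*} [Group G] (a x t : G) : Set G :=
  {u | u ^ 4 = 1 ∧ Commute u t ∧ (Commute u a ∨ Commute u x)}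

section Amalgam

open Cfsg.Lib.PSpAmalgam
open Cfsg.Lib.UFourThreeLocal (slOf slOf_mul sMul sMul_lt okP_bounds)
open Cfsg.Lib.UFourTwo (okX_part)

variable {G : Type*} [Group G] [Fintype G] {C : Cfg G} (F : C.Frame)

theorem units_four : ∀ u < 8, sMul (sMul u u) (sMul u u) = 0 := by decide +kernel

theorem uz_split {p : ℕ} (hp : p < 24) :
    ∃ u < 8, ∃ e : ℕ, F.uz p = F.uz u * (F.pt 2 : G) ^ e ∧ F.uz u ^ 4 = 1 := by
  have ha := F.ad_lt
  obtain ⟨u, hu, h⟩ := F.ad_facts.2.2.2 p hp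
  have h4 : F.uz u ^ 4 = 1 := by
    have hu' : u < 24 := by omega
    rw [show 4 = 2 + 2 from rfl, pow_add, pow_two, ← F.uz_mul hu' hu', ← F.uz_mul (sMul_lt hu' hu') (sMul_lt hu' hu'),
      units_four u hu, F.uz_zero]
  rcases h with rfl | rfl | rfl
  · exact ⟨p, hu, 0, by rw [pow_zero, mul_one], h4⟩
  · exact ⟨u, hu, 1, by rw [F.uz_mul (by omega) ha, F.uz_ad, pow_one], h4⟩
  · exact ⟨u, hu, 2, by rw [F.uz_mul (by omega) (sMul_lt ha ha), F.uz_mul ha ha, F.uz_ad, pow_two], h4⟩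

theorem frame_struct_i {g : G} (hg : Commute g F.i) :
    ∃ u v n : G, g = u * v * n ∧ u ^ 4 = 1 ∧ v ^ 4 = 1 ∧ Commute u F.i ∧ Commute v F.i ∧ Commute u F.z ∧
      Commute v (F.pt 2 : G) ∧ n ∈ normalizer ((zpowers F.z ⊔ zpowers (F.pt 2 : G) : Subgroup G) : Set G) := by
  obtain ⟨a, ha, e⟩ := F.loc.surj hg
  obtain ⟨-, h2⟩ := okX_part ha
  obtain ⟨-, hp, hq, -⟩ := okP_bounds h2
  obtain ⟨u, hu, i, hi, hu4⟩ := uz_split F hp
  obtain ⟨v, hv, j, hj, hv4⟩ := uz_split F hq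
  set E := zpowers F.z ⊔ zpowers (F.pt 2 : G) with hE
  have hud : F.ud (a % 576 % 24) = F.ud v * F.z ^ j := by
    show F.s * F.uz _ * F.s⁻¹ = F.s * F.uz v * F.s⁻¹ * F.z ^ j
    rw [hj, ← F.s_d, conj_pow]
    group
  refine ⟨F.uz u, F.ud v, (F.pt 2 : G) ^ i * F.z ^ j * F.s ^ (a / 576), ?_, hu4, ?_, F.uz_i u, F.ud_i v, F.φz_z _,
    F.ud_d v, ?_⟩
  · rw [← e]
    show F.psi a = _
    rw [Cfg.Frame.psi, Cfg.Frame.phi, hi, hud]
    calc _ = F.uz u * ((F.pt 2 : G) ^ i * F.ud v) * F.z ^ j * F.s ^ (a / 576) := by group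
      _ = _ := by rw [((F.ud_d v).symm.pow_left i).eq]; group
  · rw [Cfg.Frame.ud, conj_pow, hv4, mul_one, mul_inv_cancel]
  · have hs : F.s ∈ normalizer (E : Set G) := by
      refine Fusion.le_normalizer_of_conj_mem fun y hy => ?_
      have hle : E ≤ E.comap (MulAut.conj F.s).toMonoidHom := sup_le (zpowers_le.2 (by
          show F.s * F.z * F.s⁻¹ ∈ E
          rw [F.s_z]; exact mem_sup_right (mem_zpowers _))) (zpowers_le.2 (by
          show F.s * (F.pt 2 : G) * F.s⁻¹ ∈ E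
          rw [F.s_d]; exact mem_sup_left (mem_zpowers _)))
      exact hle hy
    exact mul_mem (mul_mem (le_normalizer (pow_mem (mem_sup_right (mem_zpowers _)) i))
      (le_normalizer (pow_mem (mem_sup_left (mem_zpowers _)) j))) (pow_mem hs _)

include F in
theorem exists_shift {t x : G} (ht : t * t = 1) (ht1 : t ≠ 1) (htA : t ∈ C.A₂)
    (hxQ : x ∈ C.Q₁) (hxc : IsConj F.z x ∨ IsConj F.z x⁻¹) (hxn : x ∉ C.Z) (htx : Commute t x) :
    ∃ r : G, r * F.i * r⁻¹ = t ∧ r * F.z * r⁻¹ = F.z ∧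
      (r * (F.pt 2 : G) * r⁻¹ = x ∨ r * (F.pt 2 : G) * r⁻¹ = x⁻¹) := by
  have h27 : ∀ q ∈ C.Q₂, q ^ 27 = 1 := fun q hq => by
    have h := pow_card_eq_one' (G := C.Q₂) (x := ⟨q, hq⟩)
    rw [C.card_Q₂] at h
    exact congrArg Subtype.val h
  have htn : C.π₂ ⟨t, htA⟩ = -1 := by
    refine (Cfsg.Lib.PSpThree.sl_facts.2.2.2.1 (C.π₂ ⟨t, htA⟩) ?_).resolve_left fun e => ht1 ?_
    · rw [← map_mul, show (⟨t, htA⟩ : C.A₂) * ⟨t, htA⟩ = 1 from Subtype.ext ht, map_one]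
    · have h := h27 t ((C.ker₂ _).1 e)
      rw [show (27 : ℕ) = 2 * 13 + 1 from rfl, pow_succ, pow_mul, pow_two, ht, one_pow, one_mul] at h
      exact h
  have hti : t * F.i ∈ C.Q₂ := (C.ker₂ (⟨t, htA⟩ * ⟨F.i, F.i_mem₂⟩)).1 (by
    rw [map_mul, htn, F.i_neg, neg_one_mul, neg_neg])
  obtain ⟨r, hr, hrt⟩ := exists_conj_odd F.i_sq ht hti (h27 _ hti)
  have hr₁ : r ∈ C.A₁ := C.S_le₁ (C.Q₂_le_S hr)
  let f : G ≃* G := MulAut.conj r⁻¹
  have hf : ∀ {a b : G}, Commute a b → Commute (f a) (f b) := fun h => h.map f.toMonoidHom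
  have hf' : ∀ a : G, f a = r⁻¹ * a * r := fun a => by simp [f, mul_assoc]
  have hft : f t = F.i := by rw [hf', ← hrt]; group
  set x' := f x with hx'
  have hx'Q : x' ∈ C.Q₁ := by
    rw [hx', hf']
    simpa using C.norm₁ (C.A₁.inv_mem hr₁) hxQ
  have hx'i : Commute x' F.i := hft ▸ hf htx.symm
  have hx'E : x' ∈ F.E := ⟨hx'Q, mem_centralizer_singleton_iff.2 hx'i.eq⟩
  have hx'n : x' ∉ C.Z := fun h => by
    have hc : Commute r x' := C.S_comm_Z (C.Q₂_le_S hr) h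
    refine hxn ?_
    rw [show x = r * x' * r⁻¹ by rw [hx', hf']; group, hc.eq, mul_inv_cancel_right]
    exact h
  have hzn : ∀ y, y = x' ∨ y = x'⁻¹ → y ≠ F.z := by
    rintro y (rfl | rfl) e
    · exact hx'n (e ▸ F.z_mem)
    · exact hx'n (inv_inv x' ▸ C.Z.inv_mem (e ▸ F.z_mem))
  have hd : (F.pt 2 : G) = x' ∨ (F.pt 2 : G) = x'⁻¹ := by
    rcases hxc with h | h
    · left
      have hc : IsConj F.z x' := h.trans (isConj_iff.2 ⟨r⁻¹, by rw [hx', hf', inv_inv]⟩)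
      exact ((F.fusion_E hc hx'E).resolve_left (hzn _ (Or.inl rfl))).symm
    · right
      have hc : IsConj F.z x'⁻¹ := h.trans (isConj_iff.2 ⟨r⁻¹, by rw [hx', hf', inv_inv]; group⟩)
      exact ((F.fusion_E hc (F.E.inv_mem hx'E)).resolve_left (hzn _ (Or.inr rfl))).symm
  refine ⟨r, hrt, ?_, hd.imp (fun e => ?_) (fun e => ?_)⟩
  · rw [(F.z_comm (C.le₂ hr)).eq, mul_inv_cancel_right]
  · rw [e, hx', hf']; group
  · rw [e, hx', hf']; group

include F in
theorem frame_struct {t x a : G} (ht : t * t = 1) (ht1 : t ≠ 1) (htA : t ∈ C.A₂)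
    (hxQ : x ∈ C.Q₁) (hxc : IsConj F.z x ∨ IsConj F.z x⁻¹) (hxn : x ∉ C.Z) (htx : Commute t x)
    (hZ : C.Z = zpowers a) {g : G} (hg : Commute g t) :
    ∃ v ∈ closure (compGen a x t), ∃ n, g = v * n ∧
      ∀ y ∈ zpowers a ⊔ zpowers x, n * y * n⁻¹ ∈ zpowers a ⊔ zpowers x := by
  obtain ⟨r, hri, hrz, hrd⟩ := exists_shift F ht ht1 htA hxQ hxc hxn htx
  let φ : G ≃* G := MulAut.conj r
  have hφi : φ F.i = t := hri
  have hφz : φ F.z = F.z := hrz
  have hza : zpowers F.z = zpowers a := ((C.Z_eq_zpowers F.z_mem F.z_ne).1).symm.trans hZ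
  have hE : (zpowers F.z ⊔ zpowers (F.pt 2 : G)).map φ.toMonoidHom = zpowers a ⊔ zpowers x := by
    rw [Subgroup.map_sup, MonoidHom.map_zpowers, MonoidHom.map_zpowers,
      show φ.toMonoidHom F.z = F.z from hφz, hza]
    congr 1
    rcases hrd with e | e
    · exact congrArg zpowers e
    · exact (congrArg zpowers e).trans zpowers_inv
  obtain ⟨u, v, n, e, hu4, hv4, hui, hvi, huz, hvd, hn⟩ := frame_struct_i F (g := φ.symm g) (by
    have h := hg.map φ.symm.toMonoidHom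
    rwa [← hφi, MulEquiv.coe_toMonoidHom, MulEquiv.symm_apply_apply] at h)
  have hu : φ u ∈ compGen a x t := by
    refine ⟨by rw [← map_pow, hu4, map_one], hφi ▸ hui.map φ.toMonoidHom, Or.inl ?_⟩
    have h : Commute (φ u) F.z := hφz ▸ huz.map φ.toMonoidHom
    obtain ⟨k, hk⟩ := mem_zpowers_iff.1 (hza.symm ▸ mem_zpowers a : a ∈ zpowers F.z)
    rw [← hk]
    exact h.zpow_right k
  have hv : φ v ∈ compGen a x t := by
    refine ⟨by rw [← map_pow, hv4, map_one], hφi ▸ hvi.map φ.toMonoidHom, Or.inr ?_⟩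
    have h : Commute (φ v) (φ (F.pt 2 : G)) := hvd.map φ.toMonoidHom
    rcases hrd with e | e
    · rwa [show φ (F.pt 2 : G) = x from e] at h
    · rw [show φ (F.pt 2 : G) = x⁻¹ from e] at h
      simpa using h.inv_right
  refine ⟨φ u * φ v, mul_mem (subset_closure hu) (subset_closure hv), φ n, ?_, fun y hy => ?_⟩
  · rw [← map_mul, ← map_mul, ← e, MulEquiv.apply_symm_apply]
  · rw [← hE] at hy ⊢
    obtain ⟨y, hy, rfl⟩ := hy
    exact ⟨n * y * n⁻¹, (mem_normalizer_iff.1 hn y).1 hy, by simp⟩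

end Amalgam

open Cfsg.Lib.SymNine Cfsg.Lib.PSpThree

theorem setting_struct {G : Type*} [Group G] [Finite G] (S : Setting G) (h : S.F.IsCase 2)
    {t x : G} (ht : t * t = 1) (ht1 : t ≠ 1) (hta : Commute t S.D.a)
    (hxJ : x ∈ S.D.J) (hxa : ∃ g, g * S.D.a * g⁻¹ = x ∨ g * S.D.a * g⁻¹ = x⁻¹) (hxn : x ∉ zpowers S.D.a)
    (htx : Commute t x) {g : G} (hg : Commute g t) :
    ∃ v ∈ closure (compGen S.D.a x t), ∃ n, g = v * n ∧
      ∀ y ∈ zpowers S.D.a ⊔ zpowers x, n * y * n⁻¹ ∈ zpowers S.D.a ⊔ zpowers x := by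
  have hinv : ∀ g : G, g * S.D.a * g⁻¹ ≠ S.D.a⁻¹ := fun g hg => by
    rcases (S.inverted_iff h).1 ⟨g, hg⟩ with e | e <;> exact absurd e (by decide)
  obtain ⟨C, hA, hQ, -, hZ⟩ := S.exists_cfg_fields h hinv
  letI : Fintype G := Fintype.ofFinite G
  obtain ⟨F⟩ := C.exists_frame
  have hzc : IsConj F.z x ∨ IsConj F.z x⁻¹ := by
    obtain ⟨g, hg⟩ := hxa
    rcases S.D.mem_zpowers_a (hZ ▸ F.z_mem) with e | e | e
    · exact absurd e F.z_ne
    · rw [e]
      exact hg.imp (fun h1 => isConj_iff.2 ⟨g, h1⟩) (fun h1 => isConj_iff.2 ⟨g, h1⟩)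
    · have e' : F.z = S.D.a⁻¹ := by
        rw [e, eq_inv_iff_mul_eq_one, ← pow_two, ← pow_succ, S.D.a_cube]
      rw [e']
      rcases hg with h1 | h1
      · exact Or.inr (isConj_iff.2 ⟨g, by rw [← h1]; group⟩)
      · exact Or.inl (isConj_iff.2 ⟨g, by rw [← inv_inv x, ← h1]; group⟩)
  exact frame_struct F ht ht1 (hA ▸ S.D.mem_C.2 hta.eq)
    (by rw [hQ, S.hJ]; exact hxJ) hzc (by rw [hZ]; exact hxn) htx hZ hg

theorem centralizer_structure {X : Type*} [Group X] [Finite X] (D : Cfsg.Lib.PSpThree.Data X)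
    (h3 : ∀ M : Subgroup X, M.Normal → M.index ≠ 3)
    (hsmall : (∀ g : X, g * D.a * g⁻¹ ≠ D.a⁻¹) ∨ ∀ y ∈ D.J, y ≠ 1 →
      (∀ g : X, g * D.a * g⁻¹ ≠ y ∧ g * D.a * g⁻¹ ≠ y⁻¹) →
      Subgroup.centralizer ({y} : Set X) ≤ Subgroup.normalizer (D.J : Set X))
    {t x : X} (ht : t * t = 1) (ht1 : t ≠ 1) (hta : Commute t D.a)
    (hxJ : x ∈ D.J) (hxa : ∃ g, g * D.a * g⁻¹ = x ∨ g * D.a * g⁻¹ = x⁻¹) (hxn : x ∉ Subgroup.zpowers D.a)
    (htx : Commute t x)
    {g : X} (hg : Commute g t) :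
    ∃ v ∈ Subgroup.closure {u : X | u ^ 4 = 1 ∧ Commute u t ∧ (Commute u D.a ∨ Commute u x)},
      ∃ n, g = v * n ∧ ∀ y ∈ Subgroup.zpowers D.a ⊔ Subgroup.zpowers x,
        n * y * n⁻¹ ∈ Subgroup.zpowers D.a ⊔ Subgroup.zpowers x := by
  classical
  obtain ⟨S, hS, m, h⟩ := Setting.exists_case D
  subst hS
  fin_cases m
  · obtain ⟨M, hM, hM3⟩ := S.exists_index_three h
    exact absurd hM3 (h3 M hM)
  · exfalso
    obtain ⟨g, hg⟩ := hxa
    have hn : g ∈ normalizer ((zpowers S.D.a : Subgroup X) : Set X) := by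
      rw [Setting.normal_za h]; exact mem_top _
    have hm := (mem_normalizer_iff.1 hn S.D.a).1 (mem_zpowers _)
    rcases hg with e | e <;> rw [e] at hm
    · exact hxn hm
    · exact hxn (inv_inv x ▸ inv_mem hm)
  · exact setting_struct S h ht ht1 hta hxJ hxa hxn htx hg
  · obtain ⟨T, hT, ⟨Df⟩⟩ := S.exists_full_setting h
    rw [← hT] at hsmall hta hxJ hxa hxn ⊢
    obtain ⟨k, hk⟩ := (T.inverted_iff Df.isCase).2 (Or.inr rfl)
    replace hsmall := hsmall.resolve_left fun h' => h' k hk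
    clear h hT
    clear S
    have hTs : ∀ g, g * T.F.v 1 = T.F.v 1 * g → g ∈ normalizer (T.F.J : Set X) := by
      intro g hg
      rw [T.hJ]
      refine hsmall (T.F.v 1) (T.hJ ▸ T.F.v_mem 1) (fun e => axis_facts.2.2 (T.F.v_eq_one.1 e)) (fun k => ?_)
        (mem_centralizer_singleton_iff.2 hg)
      constructor <;> intro e <;> rw [← T.a_eq] at e
      · obtain ⟨s, l, -, hl⟩ := Df.isCase.conj_cases e
        exact axis_facts.1 s l hl
      · rw [T.F.v_inv] at e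
        obtain ⟨s, l, -, hl⟩ := Df.isCase.conj_cases e
        exact axis_facts.2.1 s l hl
    obtain ⟨N, S', hidx, hCN, h', ha, hJ⟩ := Setting.exists_half T Df hTs
    haveI : N.Normal := normal_of_index_eq_two hidx
    have htN : t ∈ N := hCN (T.D.mem_C.2 hta.eq)
    have hxN : x ∈ N := hCN (T.D.J_le hxJ)
    have hkN : ∀ c : X, c * T.D.a * c⁻¹ = T.D.a⁻¹ → c ∉ N := fun c hc hcN => by
      rcases (S'.inverted_iff h').1 ⟨⟨c, hcN⟩, Subtype.ext (by simpa [ha] using hc)⟩ with e | e <;>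
        exact absurd e (by decide)
    obtain ⟨g₁, hg₁N, hg₁⟩ : ∃ g' ∈ N, g' * T.D.a * g'⁻¹ = x ∨ g' * T.D.a * g'⁻¹ = x⁻¹ := by
      obtain ⟨c, hc⟩ := hxa
      by_cases hcN : c ∈ N
      · exact ⟨c, hcN, hc⟩
      · refine ⟨c * k, (mul_mem_iff_of_index_two hidx).2 (iff_of_false hcN (hkN k hk)), ?_⟩
        have e : c * k * T.D.a * (c * k)⁻¹ = (c * T.D.a * c⁻¹)⁻¹ := by
          calc c * k * T.D.a * (c * k)⁻¹ = c * (k * T.D.a * k⁻¹) * c⁻¹ := by group
            _ = _ := by rw [hk]; group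
        rcases hc with e1 | e1
        · exact Or.inr (by rw [e, e1])
        · exact Or.inl (by rw [e, e1, inv_inv])
    set E := zpowers T.D.a ⊔ zpowers x with hE
    have hin : ∀ {g : X}, g ∈ N → Commute g t →
        ∃ v ∈ closure (compGen T.D.a x t), ∃ n, g = v * n ∧ ∀ y ∈ E, n * y * n⁻¹ ∈ E := by
      intro g hgN hg
      obtain ⟨v, hv, n, e, hn⟩ := setting_struct S' h' (t := (⟨t, htN⟩ : N)) (x := ⟨x, hxN⟩) (Subtype.ext ht)
        (fun e => ht1 (congrArg Subtype.val e)) (Subtype.ext (by simpa [ha] using hta.eq)) (hJ _ hxJ)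
        ⟨⟨g₁, hg₁N⟩, hg₁.imp (fun e => Subtype.ext (by simpa [ha] using e))
          (fun e => Subtype.ext (by simpa [ha] using e))⟩
        (fun ⟨m, hm⟩ => hxn ⟨m, by simpa [ha] using congrArg Subtype.val hm⟩)
        (Subtype.ext htx.eq) (g := ⟨g, hgN⟩) (Subtype.ext hg.eq)
      have hcl : closure (compGen S'.D.a (⟨x, hxN⟩ : N) ⟨t, htN⟩) ≤
          (closure (compGen T.D.a x t)).comap N.subtype := by
        refine (closure_le _).2 fun u hu => ?_
        obtain ⟨h4, hut, h⟩ := hu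
        refine subset_closure (⟨?_, hut.map N.subtype, ?_⟩ : (u : X) ∈ compGen T.D.a x t)
        · simpa using congrArg Subtype.val h4
        · rcases h with h | h
          · exact Or.inl (ha ▸ h.map N.subtype)
          · exact Or.inr (h.map N.subtype)
      have hmap : (zpowers S'.D.a ⊔ zpowers (⟨x, hxN⟩ : N)).map N.subtype = E := by
        rw [Subgroup.map_sup, MonoidHom.map_zpowers, MonoidHom.map_zpowers, hE, ← ha]
        rfl
      refine ⟨v, hcl hv, n, congrArg Subtype.val e, fun y hy => ?_⟩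
      rw [← hmap] at hy ⊢
      obtain ⟨y, hy, rfl⟩ := hy
      exact ⟨n * y * n⁻¹, hn y hy, rfl⟩
    by_cases hgN : g ∈ N
    · exact hin hgN hg
    -- an inversion of `J` commuting with the involution
    have htNJ : t ∈ normalizer (T.F.J : Set X) := by
      have hp2 : T.F.p 2 * T.F.p 2 = 1 := T.p_sq (by decide +kernel)
      have hpR : T.F.p 2 ∉ T.D.R := fun hR => by
        have h3 := T.D.R_exp _ hR
        rw [pow_succ, pow_two, hp2, one_mul] at h3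
        exact absurd (T.F.free 0 2 (by rw [T.F.v0, one_mul, h3])).2 (by decide)
      have hneg : ∀ y : X, ∀ hy : y ∈ T.D.C, y * y = 1 → y ∉ T.D.R → T.D.π ⟨y, hy⟩ = -1 := fun y hy h2 hR =>
        (sl_facts.2.2.2.1 _ (by rw [← map_mul, show (⟨y, hy⟩ : T.D.C) * ⟨y, hy⟩ = 1 from Subtype.ext h2,
          map_one])).resolve_left fun e => hR ((T.D.ker _).1 e)
      have htR : t ∉ T.D.R := fun hR => by
        have h3 := T.D.R_exp _ hR
        rw [pow_succ, pow_two, ht, one_mul] at h3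
        exact ht1 h3
      have hr : t * T.F.p 2 ∈ T.D.R := (T.D.ker (⟨t, T.D.mem_C.2 hta.eq⟩ * ⟨_, T.p_mem_C 2⟩)).1 (by
        rw [map_mul, hneg _ _ ht htR, hneg _ _ hp2 hpR, sl_facts.2.1])
      obtain ⟨c, l, -, -, e⟩ := T.mem_R_iff.1 hr
      rw [show t = t * T.F.p 2 * T.F.p 2 by rw [mul_assoc, hp2, mul_one], e]
      exact mul_mem (mul_mem (T.F.v_mem_normalizer c) (T.F.p_mem_normalizer l)) (T.F.p_mem_normalizer 2)
    have hinvJ : ∀ j ∈ T.F.J, Df.inv * j * Df.inv⁻¹ = j⁻¹ := fun j hj => by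
      obtain ⟨c, rfl⟩ := T.F.mem_J.1 hj
      have key : ∀ c, act 7 0 c = vSmul 2 c := by decide +kernel
      rw [Frame.actsAs_act Df.inv_act, key, T.F.v_inv]
    have hii : Df.inv⁻¹ = Df.inv := inv_eq_of_mul_eq_one_left Df.inv_sq
    have hJt : Df.inv * t * Df.inv⁻¹ * t ∈ T.F.J := by
      rw [← Frame.cent_J (F := T.F)]
      refine mem_centralizer_iff.2 fun j hj => ?_
      have htt : t⁻¹ = t := inv_eq_of_mul_eq_one_left ht
      have hj₁ : t * j * t⁻¹ ∈ T.F.J := (mem_normalizer_iff.1 htNJ j).1 hj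
      have hj₂ : t * (t * j * t⁻¹)⁻¹ * t⁻¹ = j⁻¹ := by
        rw [htt, mul_inv_rev, mul_inv_rev, htt]
        calc t * (t * (j⁻¹ * t)) * t = t * t * j⁻¹ * (t * t) := by group
          _ = j⁻¹ := by rw [ht, one_mul, mul_one]
      refine (mul_inv_eq_iff_eq_mul.1 ?_).symm
      calc Df.inv * t * Df.inv⁻¹ * t * j * (Df.inv * t * Df.inv⁻¹ * t)⁻¹
          = Df.inv * (t * (Df.inv⁻¹ * (t * j * t⁻¹) * Df.inv) * t⁻¹) * Df.inv⁻¹ := by group
        _ = Df.inv * (t * (t * j * t⁻¹)⁻¹ * t⁻¹) * Df.inv⁻¹ := by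
            rw [show Df.inv⁻¹ * (t * j * t⁻¹) * Df.inv = (t * j * t⁻¹)⁻¹ by
              rw [← hinvJ _ hj₁, hii]]
        _ = j := by rw [hj₂, hinvJ _ (inv_mem hj), inv_inv]
    obtain ⟨q, hq, hqe⟩ := Cfsg.Lib.PSpAmalgam.exists_conj_odd (Q := T.F.J) (i := t) ht
      (show Df.inv * t * Df.inv⁻¹ * (Df.inv * t * Df.inv⁻¹) = 1 by
        rw [show Df.inv * t * Df.inv⁻¹ * (Df.inv * t * Df.inv⁻¹) = Df.inv * (t * t) * Df.inv⁻¹ by group, ht,
          mul_one, mul_inv_cancel]) hJt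
      (by rw [show (27 : ℕ) = 3 * 9 from rfl, pow_mul, Frame.J_cube T.F hJt, one_pow])
    set c := q⁻¹ * Df.inv with hc
    have hct : Commute c t := by
      refine mul_inv_eq_iff_eq_mul.1 ?_
      calc c * t * c⁻¹ = q⁻¹ * (Df.inv * t * Df.inv⁻¹) * q := by rw [hc]; group
        _ = t := by rw [← hqe]; group
    have hcJ : ∀ j ∈ T.F.J, c * j * c⁻¹ = j⁻¹ := fun j hj => by
      have hqj : Commute q⁻¹ j⁻¹ :=
        T.D.J_comm _ (T.hJ ▸ inv_mem hq) _ (T.hJ ▸ inv_mem hj)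
      calc c * j * c⁻¹ = q⁻¹ * (Df.inv * j * Df.inv⁻¹) * q := by rw [hc]; group
        _ = j⁻¹ := by rw [hinvJ j hj, hqj.eq, mul_assoc, inv_mul_cancel, mul_one]
    have hEJ : E ≤ T.F.J := by
      rw [T.hJ]; exact sup_le (zpowers_le.2 T.D.a_mem_J) (zpowers_le.2 hxJ)
    have hcN : c ∉ N := hkN c (hcJ _ (hEJ (mem_sup_left (mem_zpowers _))))
    obtain ⟨v, hv, n, e, hn⟩ := hin ((mul_mem_iff_of_index_two hidx).2 (iff_of_false hgN hcN)) (hg.mul_left hct)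
    refine ⟨v, hv, n * c⁻¹, by rw [← mul_assoc, ← e, mul_inv_cancel_right], fun y hy => ?_⟩
    have hy' : c⁻¹ * y * c = y⁻¹ := by
      calc c⁻¹ * y * c = c⁻¹ * (c * y⁻¹ * c⁻¹) * c := by rw [hcJ _ (inv_mem (hEJ hy)), inv_inv]
        _ = y⁻¹ := by group
    rw [show n * c⁻¹ * y * (n * c⁻¹)⁻¹ = n * (c⁻¹ * y * c) * n⁻¹ by group, hy']
    exact hn _ (inv_mem hy)

end Cfsg.Lib.U62Comm
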